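import Mathlib.Algebra.Homology.HomologySequence
import Mathlib.Algebra.Homology.HomologicalComplexAbelian
import Mathlib.Algebra.Homology.ExactSequence
import Mathlib.CategoryTheory.Abelian.RightDerived
import Groth.Agent.Lib.GrothSS.Universal

/-! # Mayer–Vietoris sequences of derived functors -/

set_option autoImplicit false

universe v v' w w'

open CategoryTheory CategoryTheory.Limits

namespace GrothLib.RelMV25

section Biprod

variable {D : Type w'} [Category.{v'} D] [Abelian D] (K L : CochainComplex D ℕ) (n : ℕ)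

/-- Components of a biproduct of complexes. -/
noncomputable def xBiprod : (K.X n ⊞ L.X n) ≅ (K ⊞ L).X n where
  hom := biprod.desc ((biprod.inl : K ⟶ K ⊞ L).f n) ((biprod.inr : L ⟶ K ⊞ L).f n)
  inv := biprod.lift ((biprod.fst : K ⊞ L ⟶ K).f n) ((biprod.snd : K ⊞ L ⟶ L).f n)
  hom_inv_id := by
    refine biprod.hom_ext' _ _ ?_ ?_ <;> refine biprod.hom_ext _ _ ?_ ?_ <;>
      simp [← HomologicalComplex.comp_f]
  inv_hom_id := by
    rw [biprod.lift_desc, ← HomologicalComplex.comp_f, ← HomologicalComplex.comp_f, ← HomologicalComplex.add_f_apply,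
      biprod.total, HomologicalComplex.id_f]

/-- Cohomology of a biproduct of complexes. -/
noncomputable def hBiprod : (K.homology n ⊞ L.homology n) ≅ (K ⊞ L).homology n where
  hom := biprod.desc (HomologicalComplex.homologyMap (biprod.inl : K ⟶ K ⊞ L) n)
    (HomologicalComplex.homologyMap (biprod.inr : L ⟶ K ⊞ L) n)
  inv := biprod.lift (HomologicalComplex.homologyMap (biprod.fst : K ⊞ L ⟶ K) n)
    (HomologicalComplex.homologyMap (biprod.snd : K ⊞ L ⟶ L) n)
  hom_inv_id := by
    refine biprod.hom_ext' _ _ ?_ ?_ <;> refine biprod.hom_ext _ _ ?_ ?_ <;>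
      simp [← HomologicalComplex.homologyMap_comp]
  inv_hom_id := by
    rw [biprod.lift_desc, ← HomologicalComplex.homologyMap_comp, ← HomologicalComplex.homologyMap_comp,
      ← HomologicalComplex.homologyMap_add, biprod.total, HomologicalComplex.homologyMap_id]

end Biprod

variable {A : Type w} [Category.{v} A] [Abelian A] [HasInjectiveResolutions A]
  {D : Type w'} [Category.{v'} D] [Abelian D]
  {G₀ G₁ G₂ G₁₂ : A ⥤ D} [G₀.Additive] [G₁.Additive] [G₂.Additive] [G₁₂.Additive]
  (r₁ : G₀ ⟶ G₁) (r₂ : G₀ ⟶ G₂) (s₁ : G₁ ⟶ G₁₂) (s₂ : G₂ ⟶ G₁₂)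

theorem exists_delta (w : ∀ I : A, r₁.app I ≫ s₁.app I + r₂.app I ≫ (-s₂.app I) = 0)
    (h : ∀ I : A, Injective I → (ShortComplex.mk (biprod.lift (r₁.app I) (r₂.app I))
      (biprod.desc (s₁.app I) (-s₂.app I)) (by rw [biprod.lift_desc]; exact w I)).ShortExact) (F : A) :
    ∃ δ : ∀ n : ℕ, (G₁₂.rightDerived n).obj F ⟶ (G₀.rightDerived (n + 1)).obj F,
      Mono (biprod.lift ((NatTrans.rightDerived r₁ 0).app F) ((NatTrans.rightDerived r₂ 0).app F)) ∧
      ∀ n : ℕ,
        (ComposableArrows.mk₂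
          (biprod.lift ((NatTrans.rightDerived r₁ n).app F) ((NatTrans.rightDerived r₂ n).app F))
          (biprod.desc ((NatTrans.rightDerived s₁ n).app F) (-((NatTrans.rightDerived s₂ n).app F)))).Exact ∧
        (ComposableArrows.mk₂
          (biprod.desc ((NatTrans.rightDerived s₁ n).app F) (-((NatTrans.rightDerived s₂ n).app F)))
          (δ n)).Exact ∧
        (ComposableArrows.mk₂ (δ n)
          (biprod.lift ((NatTrans.rightDerived r₁ (n + 1)).app F)
            ((NatTrans.rightDerived r₂ (n + 1)).app F))).Exact := by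
  let P := injectiveResolution F
  let I := P.cocomplex
  let cx : ∀ (G : A ⥤ D) [G.Additive], CochainComplex D ℕ := fun G _ => (G.mapHomologicalComplex _).obj I
  let cm : ∀ {G G' : A ⥤ D} [G.Additive] [G'.Additive] (a : G ⟶ G'), cx G ⟶ cx G' :=
    fun a => (NatTrans.mapHomologicalComplex a _).app I
  let p : cx G₀ ⟶ cx G₁ ⊞ cx G₂ := cm r₁ ≫ biprod.inl + cm r₂ ≫ biprod.inr
  let q : cx G₁ ⊞ cx G₂ ⟶ cx G₁₂ := biprod.desc (cm s₁) (-cm s₂)
  have hpq : p ≫ q = 0 := by
    simp only [p, q, Preadditive.add_comp, Category.assoc, biprod.inl_desc, biprod.inr_desc]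
    ext n
    exact w (I.X n)
  let S : ShortComplex (CochainComplex D ℕ) := ShortComplex.mk p q hpq
  have hS : S.ShortExact := by
    refine HomologicalComplex.shortExact_of_degreewise_shortExact _ fun n => ?_
    refine (ShortComplex.shortExact_iff_of_iso ?_).1 (h (I.X n) (P.injective n))
    refine ShortComplex.isoMk (Iso.refl _) (xBiprod (cx G₁) (cx G₂) n) (Iso.refl _) ?_ ?_
    · refine (Category.id_comp _).trans (Eq.trans ?_ (biprod.lift_desc (f := r₁.app (I.X n)) (g := r₂.app (I.X n))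
        (h := (biprod.inl : cx G₁ ⟶ cx G₁ ⊞ cx G₂).f n) (i := (biprod.inr : cx G₂ ⟶ cx G₁ ⊞ cx G₂).f n)).symm)
      rfl
    · refine Eq.trans ?_ (Category.comp_id _).symm
      refine biprod.hom_ext' _ _ ?_ ?_
      · refine (biprod.inl_desc_assoc _ _ _).trans (Eq.trans ?_ (biprod.inl_desc _ _).symm)
        exact congrArg (fun m : cx G₁ ⟶ cx G₁₂ => m.f n) (biprod.inl_desc (cm s₁) (-cm s₂))
      · refine (biprod.inr_desc_assoc _ _ _).trans (Eq.trans ?_ (biprod.inr_desc _ _).symm)
        exact congrArg (fun m : cx G₂ ⟶ cx G₁₂ => m.f n) (biprod.inr_desc (cm s₁) (-cm s₂))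
  let e : ∀ (G : A ⥤ D) [G.Additive] (n : ℕ), (G.rightDerived n).obj F ≅ (cx G).homology n :=
    fun G _ n => P.isoRightDerivedObj G n
  have he : ∀ {G G' : A ⥤ D} [G.Additive] [G'.Additive] (a : G ⟶ G') (n : ℕ),
      (NatTrans.rightDerived a n).app F ≫ (e G' n).hom = (e G n).hom ≫ HomologicalComplex.homologyMap (cm a) n :=
    fun a n => by
    rw [InjectiveResolution.rightDerived_app_eq a P n]
    refine (Category.assoc _ _ _).trans (congrArg ((P.isoRightDerivedObj _ n).hom ≫ ·) ?_)
    exact (Category.assoc _ _ _).trans ((congrArg (_ ≫ ·) (Iso.inv_hom_id _)).trans (Category.comp_id _))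
  let e2 : ∀ n, biprod ((G₁.rightDerived n).obj F) ((G₂.rightDerived n).obj F) ≅ (cx G₁ ⊞ cx G₂).homology n :=
    fun n => biprod.mapIso (e G₁ n) (e G₂ n) ≪≫ hBiprod (cx G₁) (cx G₂) n
  have e2h : ∀ n, (e2 n).hom =
      biprod.desc ((e G₁ n).hom ≫ HomologicalComplex.homologyMap biprod.inl n)
        ((e G₂ n).hom ≫ HomologicalComplex.homologyMap biprod.inr n) := fun n => by
    refine biprod.hom_ext' _ _ ?_ ?_ <;> simp [e2, hBiprod]
  have c1 : ∀ n, biprod.lift ((NatTrans.rightDerived r₁ n).app F) ((NatTrans.rightDerived r₂ n).app F) ≫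
      (e2 n).hom = (e G₀ n).hom ≫ HomologicalComplex.homologyMap p n := fun n => by
    rw [e2h, biprod.lift_desc, ← Category.assoc, ← Category.assoc, he, he]
    simp [p, HomologicalComplex.homologyMap_add, HomologicalComplex.homologyMap_comp]
  have c2 : ∀ n, biprod.desc ((NatTrans.rightDerived s₁ n).app F) (-((NatTrans.rightDerived s₂ n).app F)) ≫
      (e G₁₂ n).hom = (e2 n).hom ≫ HomologicalComplex.homologyMap q n := fun n => by
    rw [e2h]
    refine biprod.hom_ext' _ _ ?_ ?_
    · simp only [biprod.inl_desc_assoc, Category.assoc, ← HomologicalComplex.homologyMap_comp, q, biprod.inl_desc]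
      exact he s₁ n
    · simp only [biprod.inr_desc_assoc, Category.assoc, ← HomologicalComplex.homologyMap_comp, q, biprod.inr_desc,
        HomologicalComplex.homologyMap_neg, Preadditive.neg_comp, Preadditive.comp_neg]
      exact congrArg Neg.neg (he s₂ n)
  let δ : ∀ n : ℕ, (G₁₂.rightDerived n).obj F ⟶ (G₀.rightDerived (n + 1)).obj F :=
    fun n => (e G₁₂ n).hom ≫ hS.δ n (n + 1) (by simp) ≫ (e G₀ (n + 1)).inv
  have c3 : ∀ n, δ n ≫ (e G₀ (n + 1)).hom = (e G₁₂ n).hom ≫ hS.δ n (n + 1) (by simp) := fun n => by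
    simp [δ]
  refine ⟨δ, ?_, fun n => ⟨?_, ?_, ?_⟩⟩
  · have : Mono (p.f 0) := (hS.map_of_exact (HomologicalComplex.eval D (ComplexShape.up ℕ) 0)).mono_f
    have : Mono (HomologicalComplex.homologyMap p 0) := GrothSS.mono_homologyMap_zero p
    have : Mono (biprod.lift ((NatTrans.rightDerived r₁ 0).app F) ((NatTrans.rightDerived r₂ 0).app F) ≫
      (e2 0).hom) := by rw [c1]; infer_instance
    exact mono_of_mono _ (e2 0).hom
  · have w' : biprod.lift ((NatTrans.rightDerived r₁ n).app F) ((NatTrans.rightDerived r₂ n).app F) ≫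
        biprod.desc ((NatTrans.rightDerived s₁ n).app F) (-((NatTrans.rightDerived s₂ n).app F)) = 0 := by
      rw [← cancel_mono (e G₁₂ n).hom, Category.assoc, c2, ← Category.assoc, c1, Category.assoc,
        ← HomologicalComplex.homologyMap_comp, hpq, HomologicalComplex.homologyMap_zero, comp_zero, zero_comp]
    refine ComposableArrows.exact₂_mk _ w' ?_
    exact ShortComplex.exact_of_iso
      (ShortComplex.isoMk (e G₀ n) (e2 n) (e G₁₂ n) (c1 n).symm (c2 n).symm).symm (hS.homology_exact₂ n)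
  · have w' : biprod.desc ((NatTrans.rightDerived s₁ n).app F) (-((NatTrans.rightDerived s₂ n).app F)) ≫ δ n = 0 := by
      rw [← cancel_mono (e G₀ (n + 1)).hom, Category.assoc, c3, ← Category.assoc, c2, Category.assoc, zero_comp]
      refine (congrArg ((e2 n).hom ≫ ·) ?_).trans comp_zero
      exact hS.comp_δ n (n + 1) (by simp)
    refine ComposableArrows.exact₂_mk _ w' ?_
    exact ShortComplex.exact_of_iso
      (ShortComplex.isoMk (e2 n) (e G₁₂ n) (e G₀ (n + 1)) (c2 n).symm (c3 n).symm).symm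
      (hS.homology_exact₃ n (n + 1) (by simp))
  · have w' : δ n ≫ biprod.lift ((NatTrans.rightDerived r₁ (n + 1)).app F)
        ((NatTrans.rightDerived r₂ (n + 1)).app F) = 0 := by
      rw [← cancel_mono (e2 (n + 1)).hom, Category.assoc, c1, ← Category.assoc, c3, Category.assoc, zero_comp]
      refine (congrArg ((e G₁₂ n).hom ≫ ·) ?_).trans comp_zero
      exact hS.δ_comp n (n + 1) (by simp)
    refine ComposableArrows.exact₂_mk _ w' ?_
    exact ShortComplex.exact_of_iso
      (ShortComplex.isoMk (e G₁₂ n) (e G₀ (n + 1)) (e2 (n + 1)) (c3 n).symm (c1 (n + 1)).symm).symm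
      (hS.homology_exact₁ n (n + 1) (by simp))

end GrothLib.RelMV25
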