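import Groth.Agent.RelMV25.Abstract
import Groth.Prelude.Def_CohCx
import Groth.Agent.Lib.SheafCoh.Top
import Mathlib.Topology.Sheaves.SheafCondition.UniqueGluing

/-! # Relative Mayer–Vietoris -/

set_option autoImplicit false
set_option backward.isDefEq.respectTransparency false

universe u

open CategoryTheory CategoryTheory.Limits Opposite TopologicalSpace

namespace GrothLib.RelMV25

open GrothLib

variable {X : TopCat.{u}}

theorem sections_exact (I : CohTop.Ab X) {Z A B C : Opens X} (hA : A ≤ Z) (hB : B ≤ Z) (hCA : C ≤ A) (hCB : C ≤ B)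
    (hcov : Z ≤ A ⊔ B) (hAB : A ⊓ B ≤ C) (a : I.obj.obj (op A)) (b : I.obj.obj (op B))
    (h : I.obj.map (homOfLE hCA).op a = I.obj.map (homOfLE hCB).op b) :
    ∃ z, I.obj.map (homOfLE hA).op z = a ∧ I.obj.map (homOfLE hB).op z = b := by
  let W : Bool → Opens X := fun t => cond t A B
  let sf : ∀ t, I.obj.obj (op (W t)) := fun t => match t with
    | true => a
    | false => b
  have hW : ∀ t, W t ≤ Z := fun t => match t with
    | true => hA
    | false => hB
  have key : I.obj.map (homOfLE (inf_le_left : A ⊓ B ≤ A)).op a = I.obj.map (homOfLE (inf_le_right : A ⊓ B ≤ B)).op b := by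
    have h' := congrArg (I.obj.map (homOfLE hAB).op) h
    rw [← ConcreteCategory.comp_apply, ← ConcreteCategory.comp_apply, ← I.obj.map_comp, ← I.obj.map_comp] at h'
    exact h'
  have key' : I.obj.map (homOfLE (inf_le_left : B ⊓ A ≤ B)).op b = I.obj.map (homOfLE (inf_le_right : B ⊓ A ≤ A)).op a := by
    have h' := (congrArg (I.obj.map (homOfLE (inf_comm B A).le).op) key).symm
    rw [← ConcreteCategory.comp_apply, ← ConcreteCategory.comp_apply, ← I.obj.map_comp, ← I.obj.map_comp] at h'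
    exact h'
  obtain ⟨z, hz, -⟩ := TopCat.Sheaf.existsUnique_gluing' I W Z (fun t => homOfLE (hW t))
    (hcov.trans (sup_le (le_iSup W true) (le_iSup W false))) sf
    (fun i j => match i, j with
      | true, true => rfl
      | false, false => rfl
      | true, false => key
      | false, true => key')
  exact ⟨z, hz true, hz false⟩

theorem sections_injective (I : CohTop.Ab X) {Z A B : Opens X} (hA : A ≤ Z) (hB : B ≤ Z)
    (hcov : Z ≤ A ⊔ B) (z z' : I.obj.obj (op Z)) (ha : I.obj.map (homOfLE hA).op z = I.obj.map (homOfLE hA).op z')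
    (hb : I.obj.map (homOfLE hB).op z = I.obj.map (homOfLE hB).op z') : z = z' :=
  TopCat.Sheaf.eq_of_locally_eq₂ (F := I) (homOfLE hA) (homOfLE hB) hcov z z' ha hb

variable {Y : TopCat.{u}}

theorem shortExact_of_sections {S₀ S₁ S₂ S₃ : CohTop.Ab Y} (r₁ : S₀ ⟶ S₁) (r₂ : S₀ ⟶ S₂) (s₁ : S₁ ⟶ S₃)
    (s₂ : S₂ ⟶ S₃) (w : biprod.lift r₁ r₂ ≫ biprod.desc s₁ (-s₂) = 0)
    (hinj : ∀ (W : (Opens Y)ᵒᵖ) (z z' : S₀.obj.obj W), r₁.hom.app W z = r₁.hom.app W z' →
      r₂.hom.app W z = r₂.hom.app W z' → z = z')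
    (hex : ∀ (W : (Opens Y)ᵒᵖ) (a : S₁.obj.obj W) (b : S₂.obj.obj W), s₁.hom.app W a = s₂.hom.app W b →
      ∃ z, r₁.hom.app W z = a ∧ r₂.hom.app W z = b)
    (hsurj : ∀ (W : (Opens Y)ᵒᵖ), Function.Surjective (s₁.hom.app W)) :
    (ShortComplex.mk (biprod.lift r₁ r₂) (biprod.desc s₁ (-s₂)) w).ShortExact := by
  let Γ := sheafToPresheaf (Opens.grothendieckTopology Y) AddCommGrpCat.{u}
  let S := ShortComplex.mk (biprod.lift r₁ r₂) (biprod.desc s₁ (-s₂)) w
  have hfst : ∀ (W : (Opens Y)ᵒᵖ) (z : S₀.obj.obj W),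
      (biprod.fst : S₁ ⊞ S₂ ⟶ S₁).hom.app W ((biprod.lift r₁ r₂).hom.app W z) = r₁.hom.app W z := fun W z =>
    ConcreteCategory.congr_hom (congrArg (fun m : S₀ ⟶ S₁ => m.hom.app W) (biprod.lift_fst r₁ r₂)) z
  have hsnd : ∀ (W : (Opens Y)ᵒᵖ) (z : S₀.obj.obj W),
      (biprod.snd : S₁ ⊞ S₂ ⟶ S₂).hom.app W ((biprod.lift r₁ r₂).hom.app W z) = r₂.hom.app W z := fun W z =>
    ConcreteCategory.congr_hom (congrArg (fun m : S₀ ⟶ S₂ => m.hom.app W) (biprod.lift_snd r₁ r₂)) z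
  have hdec : ∀ (W : (Opens Y)ᵒᵖ) (x : (S₁ ⊞ S₂).obj.obj W),
      (biprod.inl : S₁ ⟶ S₁ ⊞ S₂).hom.app W ((biprod.fst : S₁ ⊞ S₂ ⟶ S₁).hom.app W x) +
        (biprod.inr : S₂ ⟶ S₁ ⊞ S₂).hom.app W ((biprod.snd : S₁ ⊞ S₂ ⟶ S₂).hom.app W x) = x := fun W x =>
    ConcreteCategory.congr_hom (congrArg (fun m : S₁ ⊞ S₂ ⟶ S₁ ⊞ S₂ => m.hom.app W) biprod.total) x
  have hg : ∀ (W : (Opens Y)ᵒᵖ) (x : (S₁ ⊞ S₂).obj.obj W), (biprod.desc s₁ (-s₂)).hom.app W x =
      s₁.hom.app W ((biprod.fst : S₁ ⊞ S₂ ⟶ S₁).hom.app W x) -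
        s₂.hom.app W ((biprod.snd : S₁ ⊞ S₂ ⟶ S₂).hom.app W x) := fun W x => by
    refine (ConcreteCategory.congr_hom (congrArg (fun m : S₁ ⊞ S₂ ⟶ S₃ => m.hom.app W)
      (biprod.desc_eq (f := s₁) (g := -s₂))) x).trans ?_
    exact (sub_eq_add_neg _ _).symm
  have hm : Mono S.f := by
    refine Γ.mono_of_mono_map ?_
    refine @NatTrans.mono_of_mono_app _ _ _ _ _ _ _ fun W => ?_
    rw [AddCommGrpCat.mono_iff_injective]
    intro z z' h
    exact hinj W z z' ((hfst W z).symm.trans ((congrArg _ h).trans (hfst W z')))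
      ((hsnd W z).symm.trans ((congrArg _ h).trans (hsnd W z')))
  have he : Epi S.g := by
    refine Γ.epi_of_epi_map ?_
    refine @NatTrans.epi_of_epi_app _ _ _ _ _ _ _ fun W => ?_
    rw [AddCommGrpCat.epi_iff_surjective]
    intro c
    obtain ⟨a, ha⟩ := hsurj W c
    refine ⟨(biprod.inl : S₁ ⟶ S₁ ⊞ S₂).hom.app W a, ?_⟩
    exact (ConcreteCategory.congr_hom (congrArg (fun m : S₁ ⟶ S₃ => m.hom.app W) (biprod.inl_desc s₁ (-s₂))) a).trans ha
  have hP : (S.map Γ).Exact := by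
    refine (ShortComplex.exact_iff_epi_kernel_lift (S.map Γ)).2 ?_
    refine @NatTrans.epi_of_epi_app _ _ _ _ _ _ _ fun W => ?_
    rw [AddCommGrpCat.epi_iff_surjective]
    intro k
    let x := (kernel.ι (S.map Γ).g).app W k
    have hx : (biprod.desc s₁ (-s₂)).hom.app W x = 0 :=
      ConcreteCategory.congr_hom (NatTrans.congr_app (kernel.condition (S.map Γ).g) W) k
    obtain ⟨z, hza, hzb⟩ := hex W _ _ (sub_eq_zero.1 ((hg W x).symm.trans hx))
    refine ⟨z, ?_⟩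
    have hmo : Mono ((kernel.ι (S.map Γ).g).app W) := inferInstance
    apply (AddCommGrpCat.mono_iff_injective _).1 hmo
    refine (ConcreteCategory.congr_hom (NatTrans.congr_app (kernel.lift_ι (S.map Γ).g (S.map Γ).f (S.map Γ).zero) W) z).trans ?_
    change (biprod.lift r₁ r₂).hom.app W z = x
    rw [← hdec W ((biprod.lift r₁ r₂).hom.app W z), hfst, hsnd, hza, hzb, hdec]
  refine ShortComplex.ShortExact.mk' ?_ hm he
  rw [ShortComplex.exact_iff_exact_up_to_refinements]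
  intro T x hx
  have : Mono (S.map Γ).f := inferInstanceAs (Mono (Γ.map S.f))
  refine ⟨T, 𝟙 _, inferInstance, ⟨hP.lift (Γ.map x) ((Γ.map_comp _ _).symm.trans ((congrArg Γ.map hx).trans rfl))⟩, ?_⟩
  refine (Category.id_comp _).trans (Γ.map_injective ?_)
  rw [Γ.map_comp]
  exact (hP.lift_f _ _).symm

variable (f : X ⟶ Y) (U V : Opens X) (hUV : U ⊔ V = ⊤)

theorem w_app (I : CohTop.Ab X) :
    (CohCx.pushToRestrPush f U).app I ≫ (CohCx.restrPushToRestrPush f (inf_le_left : U ⊓ V ≤ U)).app I +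
      (CohCx.pushToRestrPush f V).app I ≫ (-(CohCx.restrPushToRestrPush f (inf_le_right : U ⊓ V ≤ V)).app I) = 0 := by
  rw [Preadditive.comp_neg, ← sub_eq_add_neg, sub_eq_zero]
  ext W x
  change (I.obj.map _ ≫ I.obj.map _) x = (I.obj.map _ ≫ I.obj.map _) x
  rw [← I.obj.map_comp, ← I.obj.map_comp]
  rfl

include hUV in
theorem exists_delta_push (F : CohTop.Ab X) :
    ∃ δ : ∀ n : ℕ, (CohCx.RpushOn f (U ⊓ V) n).obj F ⟶ (CohTop.Rpush f (n + 1)).obj F,
      Mono (biprod.lift ((NatTrans.rightDerived (CohCx.pushToRestrPush f U) 0).app F)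
        ((NatTrans.rightDerived (CohCx.pushToRestrPush f V) 0).app F)) ∧
      ∀ n : ℕ,
        (ComposableArrows.mk₂
          (biprod.lift ((NatTrans.rightDerived (CohCx.pushToRestrPush f U) n).app F)
            ((NatTrans.rightDerived (CohCx.pushToRestrPush f V) n).app F))
          (biprod.desc
            ((NatTrans.rightDerived (CohCx.restrPushToRestrPush f (inf_le_left : U ⊓ V ≤ U)) n).app F)
            (-((NatTrans.rightDerived (CohCx.restrPushToRestrPush f (inf_le_right : U ⊓ V ≤ V)) n).app F)))).Exact ∧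
        (ComposableArrows.mk₂
          (biprod.desc
            ((NatTrans.rightDerived (CohCx.restrPushToRestrPush f (inf_le_left : U ⊓ V ≤ U)) n).app F)
            (-((NatTrans.rightDerived (CohCx.restrPushToRestrPush f (inf_le_right : U ⊓ V ≤ V)) n).app F)))
          (δ n)).Exact ∧
        (ComposableArrows.mk₂ (δ n)
          (biprod.lift ((NatTrans.rightDerived (CohCx.pushToRestrPush f U) (n + 1)).app F)
            ((NatTrans.rightDerived (CohCx.pushToRestrPush f V) (n + 1)).app F))).Exact := by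
  refine exists_delta _ _ _ _ (w_app f U V) (fun I hI => ?_) F
  have hfl : TopCat.Sheaf.IsFlasque I := @SheafCoh.isFlasque_of_injective X I hI
  refine shortExact_of_sections _ _ _ _ _ ?_ ?_ ?_
  · intro W z z' ha hb
    refine sections_injective I _ _ ?_ z z' ha hb
    intro x hx
    rcases (hUV.ge (Set.mem_univ x) : x ∈ U ⊔ V) with h | h
    · exact Or.inl ⟨⟨x, h⟩, hx, rfl⟩
    · exact Or.inr ⟨⟨x, h⟩, hx, rfl⟩
  · intro W a b h
    refine sections_exact I _ _ _ _ ?_ ?_ a b h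
    · intro x hx
      rcases (hUV.ge (Set.mem_univ x) : x ∈ U ⊔ V) with h' | h'
      · exact Or.inl ⟨⟨x, h'⟩, hx, rfl⟩
      · exact Or.inr ⟨⟨x, h'⟩, hx, rfl⟩
    · rintro x ⟨⟨⟨x₁, h₁⟩, hx₁, e₁⟩, ⟨⟨x₂, h₂⟩, -, e₂⟩⟩
      obtain rfl : x₁ = x := e₁
      obtain rfl : x₂ = x₁ := e₂
      exact ⟨⟨x₂, h₁, h₂⟩, hx₁, rfl⟩
  · intro W c
    exact (AddCommGrpCat.epi_iff_surjective _).1 (hfl.epi _) c

end GrothLib.RelMV25
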